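import Cfsg.Agent.H404.Avg.Good
import Cfsg.Agent.H477.HC.RowO
import Cfsg.Agent.S0817
import Cfsg.Agent.H167.HasStLie
import Cfsg.Agent.UGT.U2.Rec.Congr
import Cfsg.Agent.PermutationGroups.FieldCoord

/-!
# `Good p S` for `S = PΩ⁺_{2m}(q)` (task 1392, for S4831)
-/

set_option autoImplicit false

open scoped ComplexConjugate
open Cfsg

namespace Cfsg.Agent.H211.Avg

open Cfsg.Agent.Characters Module Cfsg.Agent.H53.HC Cfsg.Agent.H33 Cfsg.Agent.H477.HC Cfsg.Agent.H404.Avg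

universe u

/-- the character of `PΩ` below a Harish-Chandra character of the isometry group, with its degree -/
theorem exists_irr {ι : Type} [Fintype ι] [DecidableEq ι] {K : Type u} [Field K] [Finite K] (F : CForm K (ι → K))
    (hB : ∀ u v, F.B u v = F.Q (u + v) - F.Q u - F.Q v) {k : ℕ} {W₀ : Submodule K (ι → K)} (hW₀ : W₀ ∈ F.Om k)
    {Z : Kˣ → Prop} {c : GL (Fin k) K → ℂ} (hc : Cus K k F.σ Z c)
    (hcen : ∀ z : Omega K F.Q, z ∈ Subgroup.center (Omega K F.Q) → ∃ a : Kˣ, Z a ∧ ∀ v, (omMat z).mulVec v = (a : K) • v) :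
    ∃ α : IrrCharacter (POmega K F.Q), 0 < charDegree (α : POmega K F.Q → ℂ) ∧
      charDegree (α : POmega K F.Q → ℂ) ∣ dg F k ∧
      dg F k / charDegree (α : POmega K F.Q → ℂ) ∣ (Omega K F.Q).index := by
  obtain ⟨χ, hχ, hχ1, hχz⟩ := om_char F hB hW₀ hc
  obtain ⟨θ, e, hθ, he, h3, h4, h5, h6⟩ := down_constituent (Omega K F.Q) hχ hχ1
  obtain ⟨η, hη, hη'⟩ := exists_quot (Subgroup.center (Omega K F.Q)) hθ fun z hzc => h6 z hzc (by
    obtain ⟨a, ha, h⟩ := hcen z hzc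
    exact hχz z a ha h)
  have h7 : charDegree η = e := by
    apply Cfsg.Agent.Blocks.Basic.charDegree_of_eq
    rw [← he, ← hη' 1]
    rfl
  refine ⟨⟨η, hη⟩, ?_⟩
  change 0 < charDegree η ∧ charDegree η ∣ dg F k ∧ dg F k / charDegree η ∣ _
  rw [h7]
  exact ⟨h5, h3, h4⟩

/-- consequences for the degree -/
theorem deg_facts {d e idx : ℕ} (he : 0 < e) (h1 : e ∣ d) (h2 : d / e ∣ idx) (h8 : idx ∣ 8) :
    d ≤ 8 * e ∧ ∀ p : ℕ, p.Prime → 5 ≤ p → p ∣ d → p ∣ e := by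
  obtain ⟨f, rfl⟩ := h1
  rw [Nat.mul_div_cancel_left _ he] at h2
  have h3 : f ∣ 8 := h2.trans h8
  refine ⟨?_, fun p hp h5 hpd => ?_⟩
  · have := Nat.le_of_dvd (by norm_num) h3
    nlinarith
  · rcases hp.dvd_mul.1 hpd with h | h
    · exact h
    · have h4 : p ∣ 2 ^ 3 := h.trans h3
      have := (Nat.prime_dvd_prime_iff_eq hp Nat.prime_two).1 (hp.dvd_of_dvd_pow h4)
      omega

theorem coprime_of_sub {r q i : ℕ} (hq : r ∣ q) (hi : 0 < i) (hr : r.Prime) (hq1 : 1 ≤ q) : Nat.Coprime r (q ^ i - 1) := by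
  rw [Nat.Prime.coprime_iff_not_dvd hr]
  intro h
  have h1 : r ∣ q ^ i := hq.trans (dvd_pow_self q hi.ne')
  have h2 : 1 ≤ q ^ i := Nat.one_le_pow _ _ hq1
  have h3 : r ∣ 1 := by
    have := (Nat.dvd_sub h1 h)
    rwa [Nat.sub_sub_self h2] at this
  exact hr.one_lt.ne' (Nat.dvd_one.1 h3)

theorem card_out_le {F : Type u} [Field F] [Fintype F] {r f m : ℕ} [Fact r.Prime] (hf : 1 ≤ f)
    (hF : Fintype.card F = r ^ f) (hm : 4 ≤ m)
    [IsSimpleGroup (Cfsg.POmega F (Cfsg.quadFormPlus m F))]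
    (hna : ¬ IsMulCommutative (Cfsg.POmega F (Cfsg.quadFormPlus m F))) :
    Nat.card (Cfsg.Out (Cfsg.POmega F (Cfsg.quadFormPlus m F))) ≤ 24 * f := by
  rw [H934.OutB.card_out_of_aut hna (S0817.result r f hf hF m hm)]
  refine Nat.mul_le_mul_right _ ?_
  split_ifs <;> norm_num

theorem num1 {q f p : ℕ} (hq : 2 ≤ q) (hf : f ≤ q) (Q : ℕ) (hQ : q ^ 3 ≤ Q) (hp : p ≤ Q + 1) :
    20 * f * p ≤ ((q ^ 2 - 1) * (q ^ 4 - 1)) * ((Q + 1) * (Q - 1)) := by
  have h2 : 3 ≤ q ^ 2 - 1 := by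
    have : 2 ^ 2 ≤ q ^ 2 := Nat.pow_le_pow_left hq 2
    omega
  have h4 : 15 ≤ q ^ 4 - 1 := by
    have : 2 ^ 4 ≤ q ^ 4 := Nat.pow_le_pow_left hq 4
    omega
  have h3 : 4 * q ≤ q ^ 3 := by
    have : 2 ^ 2 ≤ q ^ 2 := Nat.pow_le_pow_left hq 2
    nlinarith
  have h5 : 20 * f ≤ 45 * (Q - 1) := by omega
  calc 20 * f * p ≤ (45 * (Q - 1)) * (Q + 1) := Nat.mul_le_mul h5 hp
    _ = (3 * 15) * ((Q + 1) * (Q - 1)) := by ring
    _ ≤ _ := Nat.mul_le_mul_right _ (Nat.mul_le_mul h2 h4)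

theorem num2 {q f p : ℕ} (hq : 2 ≤ q) (hf : f ≤ q) (Q R : ℕ) (hQ : q ^ 3 ≤ Q) (hp : p ≤ R) :
    20 * f * p * (Q - 1) ≤ R * (q ^ 1 + 1) * ((q ^ 4 - 1) * ((Q + 1) * (Q - 1))) := by
  have h4 : 15 ≤ q ^ 4 - 1 := by
    have : 2 ^ 4 ≤ q ^ 4 := Nat.pow_le_pow_left hq 4
    omega
  have h3 : 4 * q ≤ q ^ 3 := by
    have : 2 ^ 2 ≤ q ^ 2 := Nat.pow_le_pow_left hq 2
    nlinarith
  have h5 : 20 * f ≤ 3 * (15 * (Q + 1)) := by omega
  calc 20 * f * p * (Q - 1) ≤ (3 * (15 * (Q + 1))) * R * (Q - 1) :=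
        Nat.mul_le_mul_right _ (Nat.mul_le_mul h5 hp)
    _ = R * 3 * (15 * ((Q + 1) * (Q - 1))) := by ring
    _ ≤ _ := Nat.mul_le_mul (Nat.mul_le_mul_left _ (by rw [pow_one]; omega)) (Nat.mul_le_mul_right _ h4)

theorem good_plus_cross {K : Type u} [Field K] [Fintype K] {r f m : ℕ} [Fact r.Prime] [CharP K r] (hf : 1 ≤ f)
    (hK : Fintype.card K = r ^ f) (hm : 4 ≤ m)
    [IsSimpleGroup (Cfsg.POmega K (Cfsg.quadFormPlus m K))]
    (hna : ¬ IsMulCommutative (Cfsg.POmega K (Cfsg.quadFormPlus m K))) {p : ℕ} (hp : p.Prime) (h5 : 5 ≤ p)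
    (hpr : p ≠ r) (hd : p ∣ Nat.card (Cfsg.POmega K (Cfsg.quadFormPlus m K))) :
    Good p (Cfsg.POmega K (Cfsg.quadFormPlus m K)) := by
  classical
  have hr : r.Prime := Fact.out
  have hs : Nat.card K = r ^ f := by rw [Nat.card_eq_fintype_card, hK]
  obtain ⟨q, hq⟩ : ∃ q, q = Nat.card K := ⟨_, rfl⟩
  have hq2 : 2 ≤ Nat.card K := Finite.one_lt_card
  have hfq : f ≤ Nat.card K := by
    rw [hs]
    exact (Nat.lt_pow_self hr.one_lt).le
  have hrq : r ∣ Nat.card K := by rw [hs]; exact dvd_pow_self r (by omega)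
  have hpq : ¬ p ∣ Nat.card K := by
    rw [hs]; intro h; exact hpr ((Nat.prime_dvd_prime_iff_eq hp hr).1 (hp.dvd_of_dvd_pow h))
  have hd1 : p ∣ Nat.card (isometryGroup K (quadFormPlus m K)) :=
    hd.trans ((Subgroup.card_quotient_dvd_card _).trans (Subgroup.card_subgroup_dvd_card _))
  have hd2 : p ∣ Nat.card (CForm.plusF K m).iso := by
    rwa [← Nat.card_congr (isoQuad (CForm.plusF K m) (plus_hB K m)).toEquiv]
  rw [card_plusF K (by omega)] at hd2
  have hout := card_out_le (r := r) hf hK hm hna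
  have hc : Nat.card (Cfsg.Out (Cfsg.POmega K (Cfsg.quadFormPlus m K))) < ((5 * f - 1) + 1) ^ 2 := by
    rw [Nat.sub_add_cancel (by omega)]
    nlinarith
  -- the conclusion from a divisor of the degree
  have key : ∀ (k n : ℕ), k + n = m → 3 ≤ k → p ∣ dg (CForm.plusF K (k + n)) k →
      20 * f * p ≤ dg (CForm.plusF K (k + n)) k → Good p (POmega K (quadFormPlus m K)) := by
    rintro k n rfl hk hdeg hle
    obtain ⟨c, hc'⟩ := exists_cus_sq K rfl k (by omega) (fun _ => hk) (fun _ => hk) (fun _ => by omega)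
    obtain ⟨⟨W₀, hW₀⟩, -⟩ := CForm.plusF_frame (K := K) (p := r) k n
    obtain ⟨α, h1, h2, h3⟩ := exists_irr (CForm.plusF K (k + n)) (plus_hB K (k + n)) hW₀ hc'
      (fun z hz => scal_of (cen_plus K (by omega) z hz))
    obtain ⟨h6, h7⟩ := deg_facts h1 h2 h3 (plus_idx K hm)
    refine good_of hna α (h7 p hp h5 hdeg) hc ?_
    rw [Nat.sub_add_cancel (by omega)]
    have h8 : 20 * f * p = 4 * (5 * f * p) := by ring
    have h9 : 5 * f * p ≤ 2 * charDegree (α : POmega K (CForm.plusF K (k + n)).Q → ℂ) := by omega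
    exact h9
  have hcop : ∀ e i, 0 < i → Nat.Coprime (Nat.card K ^ i - 1) (r ^ e) := fun e i hi =>
    (Nat.Coprime.pow_left e (coprime_of_sub hrq hi hr (by omega))).symm
  have hpos : ∀ i, 0 < i → 0 < Nat.card K ^ i - 1 := fun i hi => by
    have := Nat.one_lt_pow hi.ne' hq2
    omega
  have hcube : Nat.card K ^ 3 ≤ Nat.card K ^ (m - 1) := Nat.pow_le_pow_right (by omega) (by omega)
  by_cases hA : p ∣ ∏ i ∈ Finset.range (m - 1), (Nat.card K ^ (2 * (i + 1)) - 1)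
  · obtain ⟨e, he⟩ := plus_dvd_top K (p := r) (m := m) (by omega)
    have h1 : ∏ i ∈ Finset.range (m - 1), (Nat.card K ^ (2 * (i + 1)) - 1) ∣ dg (CForm.plusF K (m + 0)) m :=
      (Nat.Coprime.prod_left fun i _ => hcop e _ (by omega)).dvd_of_dvd_mul_left he
    have h0 : 0 < dg (CForm.plusF K (m + 0)) m := by
      obtain ⟨c, hc'⟩ := exists_cus_sq K rfl m (by omega) (fun _ => by omega) (fun _ => by omega) (fun _ => by omega)
      obtain ⟨⟨W₀, hW₀⟩, -⟩ := CForm.plusF_frame (K := K) (p := r) m 0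
      obtain ⟨χ, hχ, hχ1, -⟩ := om_char (CForm.plusF K (m + 0)) (plus_hB K (m + 0)) hW₀ hc'
      have := Core.isIrr_apply_one_ne_zero hχ
      rw [hχ1] at this
      exact Nat.pos_of_ne_zero fun h => this (by rw [h]; simp)
    refine key m 0 (Nat.add_zero m) (by omega) (hA.trans h1) (le_trans ?_ (Nat.le_of_dvd h0 h1))
    have hple : p ≤ Nat.card K ^ (m - 1) + 1 := by
      obtain ⟨i, hi, hi'⟩ := (Prime.dvd_finsetProd_iff hp.prime _).1 hA
      rw [Finset.mem_range] at hi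
      have h2 : Nat.card K ^ (i + 1) ≤ Nat.card K ^ (m - 1) := Nat.pow_le_pow_right (by omega) (by omega)
      rw [sq_sub] at hi'
      rcases hp.dvd_mul.1 hi' with h | h
      · have := Nat.le_of_dvd (by omega) h
        omega
      · have := Nat.le_of_dvd (hpos _ (by omega)) h
        omega
    have h2 : ∏ i ∈ Finset.range (m - 1), (Nat.card K ^ (2 * (i + 1)) - 1) =
        (∏ i ∈ Finset.range (m - 2), (Nat.card K ^ (2 * (i + 1)) - 1)) *
          ((Nat.card K ^ (m - 1) + 1) * (Nat.card K ^ (m - 1) - 1)) := by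
      obtain ⟨j, rfl⟩ : ∃ j, m = j + 2 := ⟨m - 2, by omega⟩
      rw [show j + 2 - 1 = j + 1 by omega, show j + 2 - 2 = j by omega, Finset.prod_range_succ, sq_sub]
    have h3 : (Nat.card K ^ 2 - 1) * (Nat.card K ^ 4 - 1) ≤
        ∏ i ∈ Finset.range (m - 2), (Nat.card K ^ (2 * (i + 1)) - 1) := by
      rw [← Finset.prod_range_mul_prod_Ico _ (show 2 ≤ m - 2 by omega), Finset.prod_range_succ, Finset.prod_range_one]
      exact Nat.le_mul_of_pos_right _ (Finset.prod_pos fun i _ => hpos _ (by omega))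
    rw [h2]
    exact (num1 hq2 hfq _ hcube hple).trans (Nat.mul_le_mul_right _ h3)
  · have hA2 : ∀ i, i < m - 1 → ¬ p ∣ Nat.card K ^ (2 * (i + 1)) - 1 := fun i hi h =>
      hA (h.trans (Finset.dvd_prod_of_mem (fun i => Nat.card K ^ (2 * (i + 1)) - 1) (Finset.mem_range.2 hi)))
    have hB : p ∣ Nat.card K ^ m - 1 := by
      rcases hp.dvd_mul.1 hd2 with h | h
      · rcases hp.dvd_mul.1 h with h' | h'
        · rcases hp.dvd_mul.1 h' with h'' | h''
          · have := (Nat.prime_dvd_prime_iff_eq hp Nat.prime_two).1 h''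
            omega
          · exact absurd (hp.dvd_of_dvd_pow h'') hpq
        · exact h'
      · exact absurd h hA
    have hm1 : m - 1 + 1 = m := by omega
    obtain ⟨e', he'⟩ := plus_dvd K (p := r) (k := m - 1) (n := 1) (by omega) le_rfl
    have hc1 : Nat.Coprime (Nat.card K ^ 1 + 1) (r ^ e') := by
      have h8 := hcop e' 2 (by omega)
      rw [show 2 = 2 * 1 by norm_num, sq_sub] at h8
      exact h8.coprime_mul_right
    have h6 : (Nat.card K ^ (m - 1 + 1) - 1) * (Nat.card K ^ 1 + 1) *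
        ∏ i ∈ Finset.Ico 1 (m - 1 + 1 - 1), (Nat.card K ^ (2 * (i + 1)) - 1) ∣
        dg (CForm.plusF K (m - 1 + 1)) (m - 1) * (Nat.card K ^ (m - 1) - 1) :=
      Nat.Coprime.dvd_of_dvd_mul_left (((hcop e' _ (by omega)).mul_left hc1).mul_left
        (Nat.Coprime.prod_left fun i _ => hcop e' _ (by omega))) he'
    have h0 : 0 < dg (CForm.plusF K (m - 1 + 1)) (m - 1) := by
      obtain ⟨c, hc'⟩ := exists_cus_sq K rfl (m - 1) (by omega) (fun _ => by omega) (fun _ => by omega) (fun _ => by omega)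
      obtain ⟨⟨W₀, hW₀⟩, -⟩ := CForm.plusF_frame (K := K) (p := r) (m - 1) 1
      obtain ⟨χ, hχ, hχ1, -⟩ := om_char (CForm.plusF K (m - 1 + 1)) (plus_hB K (m - 1 + 1)) hW₀ hc'
      have := Core.isIrr_apply_one_ne_zero hχ
      rw [hχ1] at this
      exact Nat.pos_of_ne_zero fun h => this (by rw [h]; simp)
    have hQ : 0 < Nat.card K ^ (m - 1) - 1 := hpos _ (by omega)
    refine key (m - 1) 1 hm1 (by omega) ?_ ?_
    · have h7 : p ∣ dg (CForm.plusF K (m - 1 + 1)) (m - 1) * (Nat.card K ^ (m - 1) - 1) := by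
        refine Dvd.dvd.trans ?_ h6
        rw [mul_assoc]
        refine Dvd.dvd.mul_right ?_ _
        rw [hm1]
        exact hB
      refine (hp.dvd_mul.1 h7).resolve_right fun h => ?_
      apply hA2 (m - 2) (by omega)
      have h9 : m - 2 + 1 = m - 1 := by omega
      rw [h9]
      exact h.trans (pow_sub_dvd _ _)
    · have h7 := Nat.le_of_dvd (Nat.mul_pos h0 hQ) h6
      refine Nat.le_of_mul_le_mul_right ?_ hQ
      refine le_trans ?_ h7
      rw [hm1]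
      have h2 : ∏ i ∈ Finset.Ico 1 (m - 1), (Nat.card K ^ (2 * (i + 1)) - 1) =
          (∏ i ∈ Finset.Ico 1 (m - 2), (Nat.card K ^ (2 * (i + 1)) - 1)) *
            ((Nat.card K ^ (m - 1) + 1) * (Nat.card K ^ (m - 1) - 1)) := by
        obtain ⟨j, rfl⟩ : ∃ j, m = j + 2 := ⟨m - 2, by omega⟩
        rw [show j + 2 - 1 = j + 1 by omega, show j + 2 - 2 = j by omega,
          Finset.prod_Ico_succ_top (by omega), sq_sub]
      have h3 : Nat.card K ^ 4 - 1 ≤ ∏ i ∈ Finset.Ico 1 (m - 2), (Nat.card K ^ (2 * (i + 1)) - 1) := by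
        rw [Finset.prod_eq_prod_Ico_succ_bot (show 1 < m - 2 by omega)]
        exact Nat.le_mul_of_pos_right _ (Finset.prod_pos fun i _ => hpos _ (by omega))
      rw [h2]
      refine (num2 hq2 hfq _ (Nat.card K ^ m - 1) hcube (Nat.le_of_dvd (hpos _ (by omega)) hB)).trans ?_
      exact Nat.mul_le_mul_left _ (Nat.mul_le_mul_right _ h3)

theorem good_plus_char {K : Type u} [Field K] [Fintype K] {p f m : ℕ} (hp : p.Prime) (hf : 1 ≤ f)
    (hK : Fintype.card K = p ^ f) [CharP K p] (hm : 4 ≤ m)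
    [IsSimpleGroup (Cfsg.POmega K (Cfsg.quadFormPlus m K))]
    (hna : ¬ IsMulCommutative (Cfsg.POmega K (Cfsg.quadFormPlus m K))) :
    Good p (Cfsg.POmega K (Cfsg.quadFormPlus m K)) := by
  classical
  have : Fact p.Prime := ⟨hp⟩
  obtain ⟨K₀, _, _, ⟨e⟩⟩ := PermutationGroups.FieldCoord.exists_small_field K
  have hch : CharP K₀ p := ((e : K₀ →+* K).charP_iff e.injective p).2 inferInstance
  obtain ⟨e'⟩ := UGT.U2.Rec.Congr.nonempty_POmega (ι := Fin m ⊕ Fin m) (Q := quadFormPlus m K₀) (Q' := quadFormPlus m K)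
    e (fun v => by simp [quadFormPlus, map_sum, map_mul])
  have hL : IsLieTypeChar p (Cfsg.POmega K (Cfsg.quadFormPlus m K)) :=
    Or.inr (Or.inr (Or.inr (Or.inr (Or.inl ⟨K₀, inferInstance, inferInstance, inferInstance, m, hm,
      ⟨e'.symm⟩⟩))))
  obtain ⟨χ, hχ, h1, -⟩ := H167.StChar.hasSt_of_lie hp hL
  have hdeg : charDegree χ = p ^ (Nat.card (Cfsg.POmega K (Cfsg.quadFormPlus m K))).factorization p :=
    Cfsg.Agent.Blocks.Basic.charDegree_of_eq h1
  have hcard := S0293.result (F := K) rfl m hm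
  have h12 : p ^ (12 * f) ∣ Nat.card (Cfsg.POmega K (Cfsg.quadFormPlus m K)) := by
    have h2 : p ^ (12 * f) ∣ Nat.gcd 4 (Fintype.card K ^ m - 1) *
        Nat.card (Cfsg.POmega K (Cfsg.quadFormPlus m K)) := by
      rw [hcard, mul_assoc]
      refine Dvd.dvd.mul_right ?_ _
      rw [hK, ← pow_mul]
      refine pow_dvd_pow p ?_
      have : 4 * 3 ≤ m * (m - 1) := Nat.mul_le_mul hm (by omega)
      nlinarith
    refine Nat.Coprime.dvd_of_dvd_mul_left ?_ h2
    refine Nat.Coprime.pow_left _ ?_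
    refine Nat.Coprime.coprime_dvd_right (Nat.gcd_dvd_right _ _) ?_
    exact coprime_of_sub (by rw [hK]; exact dvd_pow_self p (by omega)) (by omega) hp Fintype.card_pos
  have hle : 12 * f ≤ (Nat.card (Cfsg.POmega K (Cfsg.quadFormPlus m K))).factorization p :=
    (hp.pow_dvd_iff_le_factorization Nat.card_pos.ne').1 h12
  have hout := card_out_le (r := p) hf hK hm hna
  refine good_of hna ⟨χ, hχ⟩ (c := 5 * f - 1) ?_ ?_ ?_
  · change p ∣ charDegree χ
    rw [hdeg]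
    exact dvd_pow_self p (by omega)
  · rw [Nat.sub_add_cancel (by omega)]
    nlinarith
  · change _ ≤ 2 * charDegree χ
    rw [hdeg, Nat.sub_add_cancel (by omega)]
    have h3 : p ^ (12 * f) ≤ p ^ (Nat.card (Cfsg.POmega K (Cfsg.quadFormPlus m K))).factorization p :=
      Nat.pow_le_pow_right hp.pos hle
    have h4 : f < 2 ^ f := Nat.lt_pow_self (by norm_num)
    have h5 : 2 ^ f ≤ p ^ f := Nat.pow_le_pow_left hp.two_le f
    have h6 : p ≤ p ^ f := Nat.le_self_pow (by omega) p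
    have h7 : p ^ (12 * f) = p ^ f * p ^ f * (p ^ f) ^ 10 := by ring
    have h8 : 2 ^ 10 ≤ (p ^ f) ^ 10 := Nat.pow_le_pow_left (by
      have : 2 ^ 1 ≤ 2 ^ f := Nat.pow_le_pow_right (by norm_num) hf
      omega) 10
    have h9 : f * p ≤ p ^ f * p ^ f := Nat.mul_le_mul (by omega) h6
    have h10 : 5 * f * p = 5 * (f * p) := by ring
    nlinarith

/-- **`Good p S` for `S = PΩ⁺_{2m}(q)`** -/
theorem good_omega_plus' {F : Type u} [Field F] [Fintype F] {m : ℕ} (hm : 4 ≤ m)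
    [IsSimpleGroup (Cfsg.POmega F (Cfsg.quadFormPlus m F))]
    (hna : ¬ IsMulCommutative (Cfsg.POmega F (Cfsg.quadFormPlus m F))) {p : ℕ} (hp : p.Prime) (h5 : 5 ≤ p)
    (hd : p ∣ Nat.card (Cfsg.POmega F (Cfsg.quadFormPlus m F))) :
    Good p (Cfsg.POmega F (Cfsg.quadFormPlus m F)) := by
  obtain ⟨r, hr⟩ := CharP.exists F
  have hpr : r.Prime := (CharP.char_is_prime_or_zero F r).resolve_right (CharP.char_ne_zero_of_finite F r)
  have : Fact r.Prime := ⟨hpr⟩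
  obtain ⟨n, -, hn⟩ := FiniteField.card F r
  by_cases h : p = r
  · subst h
    exact good_plus_char hp n.2 hn hm hna
  · exact good_plus_cross (r := r) n.2 hn hm hna hp h5 h hd

/-- task 1392 -/
theorem good_omega_plus {F : Type u} [Field F] [Fintype F] {m : ℕ} (hm : 4 ≤ m)
    [IsSimpleGroup (Cfsg.POmega F (Cfsg.quadFormPlus m F))]
    (hna : ¬ IsMulCommutative (Cfsg.POmega F (Cfsg.quadFormPlus m F))) {p : ℕ} (hp : p.Prime) (h5 : 5 ≤ p)
    (hd : p ∣ Nat.card (Cfsg.POmega F (Cfsg.quadFormPlus m F)))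
    (_hOL : OutLin (Cfsg.POmega F (Cfsg.quadFormPlus m F))) : Good p (Cfsg.POmega F (Cfsg.quadFormPlus m F)) :=
  good_omega_plus' hm hna hp h5 hd

end Cfsg.Agent.H211.Avg
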